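import Cfsg.Agent.S0205
import Mathlib.GroupTheory.PGroup
import Mathlib.GroupTheory.GroupAction.Quotient
import Mathlib.GroupTheory.Commutator.Basic

/-!
A group of odd order acting transitively, normalised by a group of prime power order: the latter
does not fix exactly two points.
-/

set_option autoImplicit false

namespace Cfsg.Agent.H72.SE

open Subgroup
open scoped commutatorElement

universe u w

variable {Γ : Type*} [Group Γ] [Finite Γ]

/-- The derived series of a subgroup, inside the ambient group. -/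
def dser (L : Subgroup Γ) : ℕ → Subgroup Γ
  | 0 => L
  | n + 1 => ⁅dser L n, dser L n⁆

theorem dser_eq_map (L : Subgroup Γ) : ∀ n, dser L n = (derivedSeries L n).map L.subtype
  | 0 => by simp [dser, derivedSeries_zero, ← MonoidHom.range_eq_map]
  | n + 1 => by simp [dser, dser_eq_map L n, derivedSeries_succ, Subgroup.map_commutator]

theorem dser_le (L : Subgroup Γ) (n : ℕ) : dser L n ≤ L := by
  rw [dser_eq_map]; exact map_subtype_le _

theorem normalizer_le_dser (L : Subgroup Γ) {g : Γ} (hg : g ∈ normalizer (L : Set Γ)) :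
    ∀ n, (dser L n).map (MulAut.conj g).toMonoidHom = dser L n
  | 0 => mem_normalizer_iff_map_conj_eq.mp hg
  | n + 1 => by rw [dser, Subgroup.map_commutator, normalizer_le_dser L hg n]

theorem exists_dser_eq_bot (L : Subgroup Γ) (hodd : Odd (Nat.card L)) : ∃ n, dser L n = ⊥ := by
  obtain ⟨n, hn⟩ := (S0205.result hodd).solvable
  exact ⟨n, by rw [dser_eq_map, hn, Subgroup.map_bot]⟩

/-- An element of odd order whose square fixes a point fixes it. -/
theorem smul_eq_of_sq {Ω : Type*} [MulAction Γ Ω] {v : Γ} (hv : Odd (orderOf v)) {x : Ω}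
    (h : v • v • x = x) : v • x = x := by
  obtain ⟨k, hk⟩ := hv
  have h2 : (v * v) ∈ MulAction.stabilizer Γ x := by
    rw [MulAction.mem_stabilizer_iff, mul_smul, h]
  have h3 : (v * v) ^ k * v = 1 := by
    rw [← pow_two, ← pow_mul, ← pow_succ, ← hk, pow_orderOf_eq_one]
  calc v • x = v • ((v * v) ^ k) • x := by
        rw [MulAction.mem_stabilizer_iff.mp (pow_mem h2 k)]
    _ = x := by
        rw [← mul_smul, ← (Commute.pow_left ((Commute.refl v).mul_left (Commute.refl v)) k).eq, h3,
          one_smul]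

variable {r : ℕ} [Fact r.Prime]

/-- A group of odd order transitive on a set, normalised by an `r`-group: the `r`-group does not
fix exactly two points. -/
theorem not_two_fixed (N : ℕ) : ∀ {Γ : Type u} [Group Γ] [Finite Γ] {Ω : Type w} [MulAction Γ Ω]
    [Finite Ω], Nat.card Ω ≤ N → ∀ (L Q : Subgroup Γ), Odd (Nat.card L) →
    Q ≤ normalizer (L : Set Γ) → IsPGroup r Q →
    (∀ a b : Ω, ∃ l ∈ L, l • a = b) → ∀ x y : Ω, x ≠ y →
    (∀ q ∈ Q, q • x = x) → (∀ q ∈ Q, q • y = y) →
    ∃ z : Ω, z ≠ x ∧ z ≠ y ∧ ∀ q ∈ Q, q • z = z := by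
  induction N with
  | zero =>
    intro Γ _ _ Ω _ _ hN L Q _ _ _ _ x
    have : Nonempty Ω := ⟨x⟩
    exact absurd (Nat.card_pos (α := Ω)) (by omega)
  | succ N ih =>
    intro Γ _ _ Ω _ _ hN L Q hodd hQL hQ htr x y hxy hx hy
    by_contra hno
    push Not at hno
    have honly : ∀ z, (∀ q ∈ Q, q • z = z) → z = x ∨ z = y := by
      intro z hz
      by_contra h
      push Not at h
      obtain ⟨q, hq, hne⟩ := hno z h.1 h.2
      exact hne (hz q hq)
    classical
    -- the last derived subgroup acting non-trivially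
    have hex : ∃ n, ∀ v ∈ dser L n, ∀ a : Ω, v • a = a := by
      obtain ⟨n, hn⟩ := exists_dser_eq_bot L hodd
      exact ⟨n, fun v hv a => by rw [hn, mem_bot] at hv; rw [hv, one_smul]⟩
    have h0 : Nat.find hex ≠ 0 := by
      intro h0
      obtain ⟨l, hl, hlx⟩ := htr x y
      exact hxy (((Nat.find_eq_zero hex).mp h0 l hl x).symm.trans hlx)
    obtain ⟨d, hd⟩ := Nat.exists_eq_succ_of_ne_zero h0
    set V := dser L d with hVdef
    have htriv : ∀ v ∈ dser L (d + 1), ∀ a : Ω, v • a = a := by
      have := Nat.find_spec hex; rwa [hd] at this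
    obtain ⟨v₀, hv₀, a₀, ha₀⟩ : ∃ v ∈ V, ∃ a : Ω, v • a ≠ a := by
      have := Nat.find_min hex (show d < Nat.find hex by omega)
      push Not at this
      exact this
    have hcomm : ∀ u ∈ V, ∀ v ∈ V, ∀ a : Ω, u • v • a = v • u • a := by
      intro u hu v hv a
      have h : ⁅u, v⁆ • (v • u • a) = v • u • a := htriv _ (commutator_mem_commutator hu hv) _
      rw [← mul_smul, ← mul_smul, ← mul_smul, commutatorElement_def] at h
      simp only [mul_assoc, inv_mul_cancel_left, inv_mul_cancel, mul_one] at h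
      rw [← mul_smul, ← mul_smul]; simpa [mul_assoc] using h
    have hVn : ∀ g ∈ normalizer (L : Set Γ), g ∈ normalizer (V : Set Γ) := fun g hg =>
      mem_normalizer_iff_map_conj_eq.mpr (normalizer_le_dser L hg d)
    have horb : ∀ g ∈ normalizer (V : Set Γ), ∀ a : Ω, ∀ v ∈ V, ∃ w ∈ V, g • v • a = w • g • a :=
      fun g hg a v hv => ⟨g * v * g⁻¹, (mem_normalizer_iff.mp hg v).mp hv, by
        rw [← mul_smul, ← mul_smul]; group⟩
    let Bl := MulAction.orbitRel.Quotient V Ω
    let NV : Subgroup Γ := normalizer (V : Set Γ)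
    have hwd : ∀ g : NV, ∀ a b : Ω, (MulAction.orbitRel V Ω).r a b →
        (MulAction.orbitRel V Ω).r ((g : Γ) • a) ((g : Γ) • b) := by
      rintro g a b ⟨v, rfl⟩
      obtain ⟨w, hw, he⟩ := horb g g.2 b v v.2
      exact ⟨⟨w, hw⟩, he.symm⟩
    let actB : MulAction NV Bl :=
      { smul := fun g => Quotient.map (fun a => (g : Γ) • a) (hwd g)
        one_smul := fun b => by
          induction b using Quotient.inductionOn with
          | _ a => exact congrArg Quotient.mk'' (one_smul Γ a)
        mul_smul := fun g g' b => by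
          induction b using Quotient.inductionOn with
          | _ a => exact congrArg Quotient.mk'' (mul_smul (g : Γ) g' a) }
    letI := actB
    let mk : Ω → Bl := fun a => Quotient.mk'' a
    have hmk : ∀ (g : NV) (a : Ω), g • mk a = mk ((g : Γ) • a) := fun g a => rfl
    have hmk_eq : ∀ a b : Ω, mk a = mk b ↔ ∃ v ∈ V, v • b = a := fun a b =>
      ⟨fun h => by
        obtain ⟨v, hv⟩ := Quotient.exact' h
        exact ⟨v, v.2, hv⟩,
      fun ⟨v, hv, h⟩ => Quotient.sound' ⟨⟨v, hv⟩, h⟩⟩
    have hVodd : ∀ v ∈ V, Odd (orderOf v) := fun v hv =>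
      hodd.of_dvd_nat (by simpa using Subgroup.orderOf_dvd_natCard L (dser_le L d hv))
    -- x and y lie in different blocks
    have hblocks : mk x ≠ mk y := by
      intro h
      obtain ⟨v, hv, hvy⟩ := (hmk_eq y x).mp h.symm
      have hfix : ∀ q ∈ Q, q • v • v • x = v • v • x := by
        intro q hq
        set w := q * v * q⁻¹ with hw
        have hwV : w ∈ V := (mem_normalizer_iff.mp (hVn q (hQL hq)) v).mp hv
        have hwx : w • x = v • x := by
          rw [hw, mul_smul, mul_smul, (inv_smul_eq_iff).mpr (hx q hq).symm, hvy, hy q hq]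
        calc q • v • v • x = w • w • x := by
              rw [hw, ← mul_smul, ← mul_smul, ← mul_smul,
                show q * v * v = q * v * q⁻¹ * (q * v * q⁻¹) * q by group, mul_smul _ q, hx q hq, mul_smul]
          _ = v • v • x := by rw [hwx, hcomm w hwV v hv, hwx]
      rcases honly _ hfix with h1 | h1
      · exact hxy ((smul_eq_of_sq (hVodd v hv) h1).symm.trans hvy)
      · rw [hvy] at h1
        exact hxy (smul_left_cancel v (h1.trans hvy.symm)).symm
    -- fewer blocks
    have hlt : Nat.card Bl < Nat.card Ω := by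
      refine lt_of_le_of_ne (Nat.card_le_card_of_surjective mk Quotient.mk''_surjective) fun h => ?_
      have := (Function.Surjective.bijective_of_nat_card_le (f := mk) Quotient.mk''_surjective h.ge).1
      exact ha₀ (this ((hmk_eq _ _).mpr ⟨v₀, hv₀, rfl⟩))
    have hLN : L ≤ NV := fun l hl => hVn l (Subgroup.le_normalizer hl)
    have hQN : Q ≤ NV := fun q hq => hVn q (hQL hq)
    obtain ⟨zb, hzx, hzy, hzQ⟩ := ih (Γ := NV) (Ω := Bl) (by omega) (L.subgroupOf NV)
      (Q.subgroupOf NV) (by rwa [Nat.card_congr (Subgroup.subgroupOfEquivOfLe hLN).toEquiv])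
      (fun q hq => by
        rw [Subgroup.mem_normalizer_iff]
        intro h
        simpa [Subgroup.mem_subgroupOf] using mem_normalizer_iff.mp (hQL hq) (h : Γ))
      (hQ.comap_subtype)
      (fun a b => by
        induction a using Quotient.inductionOn with
        | _ a =>
        induction b using Quotient.inductionOn with
        | _ b =>
        obtain ⟨l, hl, hlab⟩ := htr a b
        exact ⟨⟨l, hLN hl⟩, hl, (hmk _ a).trans (congrArg mk hlab)⟩)
      (mk x) (mk y) hblocks
      (fun q hq => (hmk q x).trans (congrArg mk (hx q hq)))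
      (fun q hq => (hmk q y).trans (congrArg mk (hy q hq)))
    obtain ⟨z, rfl⟩ : ∃ z, mk z = zb := Quotient.mk''_surjective zb
    -- the block sizes
    let O : Ω → Set Ω := fun a => MulAction.orbit V a
    have hOmem : ∀ {a b : Ω}, b ∈ O a ↔ mk b = mk a := fun {a b} =>
      ⟨fun ⟨v, hv⟩ => (hmk_eq b a).mpr ⟨v, v.2, hv⟩, fun h => by
        obtain ⟨v, hv, hvb⟩ := (hmk_eq b a).mp h
        exact ⟨⟨v, hv⟩, hvb⟩⟩
    have hcount : ∀ a : Ω, (∀ q ∈ Q, mk (q • a) = mk a) →
        Nat.card (O a) ≡ Nat.card {b : O a // ∀ q ∈ Q, q • (b : Ω) = b} [MOD r] := by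
      intro a ha
      let aO : MulAction Q (O a) :=
        { smul := fun q b => ⟨(q : Γ) • (b : Ω), hOmem.mpr (by
            have := congrArg (fun t => (⟨(q : Γ), hQN q.2⟩ : NV) • t) (hOmem.mp b.2)
            simp only [hmk] at this
            exact this.trans (ha q q.2))⟩
          one_smul := fun b => Subtype.ext (one_smul Γ (b : Ω))
          mul_smul := fun q q' b => Subtype.ext (mul_smul (q : Γ) q' (b : Ω)) }
      letI := aO
      have e := Nat.card_congr (Equiv.subtypeEquivRight (α := O a)
        (p := fun b => b ∈ MulAction.fixedPoints Q (O a))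
        (q := fun b => ∀ q ∈ Q, q • (b : Ω) = b) fun b =>
        ⟨fun h q hq => congrArg Subtype.val (h ⟨q, hq⟩), fun h q => Subtype.ext (h q q.2)⟩)
      rw [← e]
      exact hQ.card_modEq_card_fixedPoints (O a)
    have hz : ∀ q ∈ Q, mk (q • z) = mk z := fun q hq => by
      simpa [hmk] using hzQ ⟨q, hQN hq⟩ hq
    have hzero : Nat.card {b : O z // ∀ q ∈ Q, q • (b : Ω) = b} = 0 := by
      have : IsEmpty {b : O z // ∀ q ∈ Q, q • (b : Ω) = b} := ⟨fun b => by
        rcases honly _ b.2 with h | h
        · exact hzx ((hOmem.mp b.1.2).symm.trans (congrArg mk h))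
        · exact hzy ((hOmem.mp b.1.2).symm.trans (congrArg mk h))⟩
      exact Nat.card_of_isEmpty
    have hone : Nat.card {b : O x // ∀ q ∈ Q, q • (b : Ω) = b} = 1 := by
      rw [Nat.card_eq_one_iff_unique]
      refine ⟨⟨fun b c => ?_⟩, ⟨⟨⟨x, MulAction.mem_orbit_self x⟩, hx⟩⟩⟩
      have key : ∀ b : {b : O x // ∀ q ∈ Q, q • (b : Ω) = b}, (b.1 : Ω) = x := fun b =>
        (honly _ b.2).resolve_right fun h => hblocks ((hOmem.mp b.1.2).symm.trans (congrArg mk h))
      exact Subtype.ext (Subtype.ext ((key b).trans (key c).symm))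
    have hsize : Nat.card (O z) = Nat.card (O x) := by
      obtain ⟨l, hl, hlz⟩ := htr x z
      refine (Nat.card_congr (Equiv.subtypeEquiv (MulAction.toPerm l) fun b => ?_)).symm
      have h1 : mk (l • b) = mk z ↔ mk b = mk x := by
        rw [← hlz, ← hmk ⟨l, hLN hl⟩, ← hmk ⟨l, hLN hl⟩, smul_left_cancel_iff]
      exact (hOmem.trans h1.symm).trans hOmem.symm
    have h1 := hcount z hz
    rw [hzero, hsize] at h1
    have h2 := hcount x fun q hq => congrArg mk (hx q hq)
    rw [hone] at h2
    have h3 : r ∣ 1 := Nat.modEq_zero_iff_dvd.mp (h2.symm.trans h1)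
    exact (Fact.out : r.Prime).one_lt.ne' (Nat.dvd_one.mp h3)

end Cfsg.Agent.H72.SE
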