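import Cfsg.Agent.H73.Bender.Targets
import Cfsg.Agent.Coprime.Action
import Cfsg.Agent.Cores.Basic

/-!
Section 7 of notes/bender2.md, CENT: in a good rank-two action an odd subgroup normalised by a
point stabiliser commutes with the involutions of the point modulo the kernel.
-/

set_option autoImplicit false
set_option linter.style.haveILetI false

namespace Cfsg.Agent.H72.SE

open Subgroup MulAction
open Cfsg.Agent.H39
open Cfsg.Agent.H73.Bender
open scoped commutatorElement

universe u v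

variable {G : Type u} [Group G] {Ω : Type v} [MulAction G Ω]

/-- The elements of `S` commuting with `a` modulo the kernel on `C`. -/
def modCentralizer {S : Subgroup G} {C : Set Ω} (hS : SE S C) (a : G) : Subgroup G where
  carrier := {x | x ∈ S ∧ ⁅x, a⁆ ∈ kernel S C}
  one_mem' := ⟨one_mem _, by simp⟩
  mul_mem' := fun {x y} hx hy => ⟨mul_mem hx.1 hy.1, by
    rw [show ⁅x * y, a⁆ = x * ⁅y, a⁆ * x⁻¹ * ⁅x, a⁆ by simp only [commutatorElement_def]; group]
    exact mul_mem ((Subgroup.mem_normalizer_iff.mp (le_normalizer_kernel hS hx.1) _).mp hy.2) hx.2⟩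
  inv_mem' := fun {x} hx => ⟨inv_mem hx.1, by
    rw [show ⁅x⁻¹, a⁆ = x⁻¹ * ⁅x, a⁆⁻¹ * x⁻¹⁻¹ by simp only [commutatorElement_def]; group]
    exact (Subgroup.mem_normalizer_iff.mp (inv_mem (le_normalizer_kernel hS hx.1)) _).mp
      (inv_mem hx.2)⟩

theorem mem_modCentralizer {S : Subgroup G} {C : Set Ω} {hS : SE S C} {a x : G} :
    x ∈ modCentralizer hS a ↔ x ∈ S ∧ ⁅x, a⁆ ∈ kernel S C := Iff.rfl

variable [Finite G] [Finite Ω]

omit [Finite G] in
/-- The fixed points in `C` of a `q`-group preserving `C` are as many as the points of `C`,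
modulo `q`. -/
theorem card_modEq_fixed {C : Set Ω} {q : ℕ} [Fact q.Prime] {P : Subgroup G} (hP : IsPGroup q P)
    (hPC : ∀ g ∈ P, ∀ z ∈ C, g • z ∈ C) :
    Nat.card C ≡ {z | z ∈ C ∧ ∀ g ∈ P, g • z = z}.ncard [MOD q] := by
  letI : MulAction P C :=
    { smul := fun g z => ⟨(g : G) • (z : Ω), hPC g g.2 z z.2⟩
      one_smul := fun z => Subtype.ext (one_smul G (z : Ω))
      mul_smul := fun g h z => Subtype.ext (mul_smul (g : G) (h : G) (z : Ω)) }
  have h := hP.card_modEq_card_fixedPoints C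
  rwa [← Nat.card_coe_set_eq, show Nat.card {z | z ∈ C ∧ ∀ g ∈ P, g • z = z} =
    Nat.card (MulAction.fixedPoints P C) from Nat.card_congr
      { toFun := fun z => ⟨⟨z.1, z.2.1⟩, fun g => Subtype.ext (z.2.2 g g.2)⟩
        invFun := fun z => ⟨z.1.1, z.1.2, fun g hg => congrArg Subtype.val (z.2 ⟨g, hg⟩)⟩
        left_inv := fun _ => rfl
        right_inv := fun _ => rfl }]

/-- A3: for a prime divisor of the number of involutions at a point of a good action the number of
points is `2` modulo it. -/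
theorem card_modEq_two (hA3 : Targets.PairSylowFixed.{u, v}) {S : Subgroup G} {C : Set Ω}
    (hS : SE S C) (hG : Good S C) {c : Ω} (hc : c ∈ C) {q : ℕ} [Fact q.Prime]
    (hdvd : q ∣ invBar S C c) : Nat.card C ≡ 2 [MOD q] := by
  obtain ⟨x, hx, y, hy, hxy⟩ := hS.exists_ne
  obtain ⟨T, -, hT⟩ := H29.Bender.exists_isSyl_ge (D := pair S x y) (P := ⊥) bot_le
    (IsPGroup.of_bot (p := q))
  have h := card_modEq_fixed (C := C) hT.pgroup fun g hg z hz => hS.smul_mem (hT.le hg).1 hz
  rwa [show {z | z ∈ C ∧ ∀ g ∈ T, g • z = z} = ({x, y} : Set Ω) from Set.ext fun z =>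
    ⟨fun hz => hA3 G Ω S C q c x y z T hS hG hc hdvd hx hy hxy hz.1 hT hz.2, by
      rintro (rfl | rfl)
      · exact ⟨hx, fun g hg => (mem_pair.mp (hT.le hg)).2.1⟩
      · exact ⟨hy, fun g hg => (mem_pair.mp (hT.le hg)).2.2⟩⟩, Set.ncard_pair hxy] at h

omit [Finite Ω] in
/-- The point stabiliser is transitive on the involutions at its point modulo the kernel. -/
theorem card_orbit_mod_kernel {S : Subgroup G} {C : Set Ω} (hS : SE S C) {c z : Ω} (hc : c ∈ C)
    (hz : z ∈ C) (hcz : c ≠ z) {t : G} (ht : t ∈ S) (ht2 : orderOf t = 2) (htc : t • c = c) :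
    Nat.card (ptStab S c) =
      invBar S C c * Nat.card (ptStab S c ⊓ modCentralizer hS t : Subgroup G) := by
  set Hc := ptStab S c with hHc
  set Z := Hc ⊓ modCentralizer hS t with hZ
  set K := kernel S C with hK
  have key : ∀ a b : Hc, ((a : G) * t * (a : G)⁻¹ : G ⧸ K) = ((b : G) * t * (b : G)⁻¹ : G) ↔
      a⁻¹ * b ∈ Z.subgroupOf Hc := by
    intro a b
    have haS : (a : G) ∈ S := (mem_ptStab.mp a.2).1
    have hab : (a : G)⁻¹ * b ∈ Hc := mul_mem (inv_mem a.2) b.2
    have hn := le_normalizer_kernel hS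
    rw [QuotientGroup.eq, mem_subgroupOf, Subgroup.coe_mul, Subgroup.coe_inv, hZ, Subgroup.mem_inf,
      and_iff_right hab, mem_modCentralizer, and_iff_right (mem_ptStab.mp hab).1,
      Subgroup.mem_normalizer_iff.mp (hn (inv_mem ht)) ⁅(a : G)⁻¹ * b, t⁆,
      Subgroup.mem_normalizer_iff.mp (hn haS) (t⁻¹ * ⁅(a : G)⁻¹ * b, t⁆ * t⁻¹⁻¹)]
    simp only [commutatorElement_def]
    refine iff_of_eq (congrArg (· ∈ K) ?_)
    group
  let f : Hc ⧸ Z.subgroupOf Hc →
      ((fun t : G => (t : G ⧸ K)) '' {t | t ∈ S ∧ orderOf t = 2 ∧ t • c = c}) :=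
    Quotient.lift (fun a : Hc => ⟨_, (a : G) * t * (a : G)⁻¹,
        ⟨conj_mem_of_mem (mem_ptStab.mp a.2).1 ht, by rw [orderOf_conj, ht2],
          (mem_ptStab.mp a.2).2 ▸ (conj_smul_of_smul htc).trans rfl⟩, rfl⟩)
      fun a b h => Subtype.ext ((key a b).mpr (QuotientGroup.leftRel_apply.mp h))
  have hf : Function.Bijective f := by
    constructor
    · intro a b
      induction a using QuotientGroup.induction_on
      induction b using QuotientGroup.induction_on
      exact fun h => QuotientGroup.eq.mpr ((key _ _).mp (congrArg Subtype.val h))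
    · rintro ⟨_, v, ⟨hv, hv2, hvc⟩, rfl⟩
      obtain ⟨d, hd, hdv⟩ := hS.fix_conj hc hz hcz ht hv ht2 hv2 htc hvc
      exact ⟨((⟨d, mem_ptStab.mpr ⟨(mem_pair.mp hd).1, (mem_pair.mp hd).2.1⟩⟩ : Hc) : Hc ⧸ _),
        Subtype.ext (congrArg (fun g : G => (g : G ⧸ K)) hdv)⟩
  rw [invBar, ← Nat.card_eq_of_bijective f hf,
    ← Nat.card_congr (subgroupOfEquivOfLe (inf_le_left : Z ≤ Hc)).toEquiv]
  exact Subgroup.card_eq_card_quotient_mul_card_subgroup _

/-- CENT, given A3. -/
theorem cent (hA3 : Targets.PairSylowFixed.{u, v}) : Targets.Cent.{u, v} := by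
  intro G _ _ Ω _ _ S C c R hS _ hG hc hRS hR hN t ht ht2 htc x hx
  have hRS' : ∀ g ∈ R, g ∈ S ∧ g • c = c := fun g hg => mem_ptStab.mp (hRS hg)
  set D : Subgroup G := modCentralizer hS t ⊓ R with hD
  suffices hRD : R ≤ D by
    have h := inv_mem (mem_modCentralizer.mp (hRD hx).1).2
    rwa [commutatorElement_inv] at h
  suffices hdvd : Nat.card R ∣ Nat.card D from
    (Subgroup.eq_of_le_of_card_ge inf_le_right (Nat.le_of_dvd Nat.card_pos hdvd)).ge
  rw [← Nat.factorization_prime_le_iff_dvd Nat.card_pos.ne' Nat.card_pos.ne']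
  intro r hr
  haveI : Fact r.Prime := ⟨hr⟩
  suffices hpow : r ^ (Nat.card R).factorization r ∣ Nat.card D from
    (hr.pow_dvd_iff_le_factorization Nat.card_pos.ne').mp hpow
  by_cases hrR : r ∣ Nat.card R
  swap
  · rw [Nat.factorization_eq_zero_of_not_dvd hrR, pow_zero]
    exact one_dvd _
  have htH : t ∈ ptStab S c := mem_ptStab.mpr ⟨ht, htc⟩
  by_cases hrm : r ∣ invBar S C c
  · -- an invariant Sylow subgroup fixes a second point
    have hle : zpowers t ≤ normalizer (R : Set G) := zpowers_le.mpr (hN htH)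
    obtain ⟨Q, hQ⟩ := Coprime.exists_invariant_sylow (A := zpowers t) (K := R) hle
      (by rw [Nat.card_zpowers, ht2]; exact hR.coprime_two_left) (Or.inl inferInstance) r
    set Q' : Subgroup G := (Q : Subgroup R).map R.subtype with hQ'
    have hQR : Q' ≤ R := map_subtype_le _
    have hQp : IsPGroup r Q' := Q.2.map R.subtype
    obtain ⟨z, hz, hzc, hzQ⟩ : ∃ z ∈ C, z ≠ c ∧ ∀ g ∈ Q', g • z = z := by
      by_contra! hnone
      have h1 := card_modEq_fixed (C := C) hQp fun g hg z hz =>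
        hS.smul_mem (hRS' g (hQR hg)).1 hz
      rw [show {z | z ∈ C ∧ ∀ g ∈ Q', g • z = z} = ({c} : Set Ω) from Set.ext fun z =>
        ⟨fun hz => by
          by_contra hzc
          obtain ⟨g, hg, hgz⟩ := hnone z hz.1 hzc
          exact hgz (hz.2 g hg),
        fun hz => (Set.mem_singleton_iff.mp hz).symm ▸ ⟨hc, fun g hg => (hRS' g (hQR hg)).2⟩⟩,
        Set.ncard_singleton] at h1
      have h2 := (card_modEq_two hA3 hS hG hc hrm).symm.trans h1
      exact hr.one_lt.ne' (Nat.dvd_one.mp ((Nat.modEq_iff_dvd' (by omega)).mp h2.symm))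
    have hQD : Q' ≤ D := by
      intro y hy
      have hyS := hRS' y (hQR hy)
      have hy' : t * y⁻¹ * t⁻¹ ∈ Q' :=
        (Subgroup.mem_normalizer_iff.mp (hQ (mem_zpowers t)) _).mp (inv_mem hy)
      set j := y * (t * y⁻¹ * t⁻¹) with hj
      have hjQ : j ∈ Q' := mul_mem hy hy'
      have hti : t⁻¹ = t := inv_eq_of_orderOf_eq_two ht2
      have hinv : t * j * t⁻¹ = j⁻¹ := by
        simp only [hj, hti, mul_inv_rev, inv_inv, mul_assoc]
        rw [mul_self_of_orderOf_eq_two ht2, mul_one]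
      refine ⟨mem_modCentralizer.mpr ⟨hyS.1, mem_kernel.mpr ⟨?_, fun w hw => ?_⟩⟩, hQR hy⟩
      · rw [commutatorElement_def]
        exact mul_mem (mul_mem (mul_mem hyS.1 ht) (inv_mem hyS.1)) (inv_mem ht)
      · rw [show ⁅y, t⁆ = j by rw [hj, commutatorElement_def]; group]
        exact hG t ht ht2 j (hRS' j (hQR hjQ)).1 hinv c hc z hz hzc.symm htc
          (hRS' j (hQR hjQ)).2 (hzQ j hjQ) w hw
    have hcard : Nat.card Q' = r ^ (Nat.card R).factorization r := by
      rw [hQ', card_map_of_injective R.subtype_injective, Q.card_eq_multiplicity]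
    exact hcard ▸ card_dvd_of_le hQD
  · -- the index of the centraliser divides the number of involutions at `c`
    obtain ⟨z, hz, hcz⟩ : ∃ z ∈ C, c ≠ z := by
      obtain ⟨x, hx, y, hy, hxy⟩ := hS.exists_ne
      by_cases h : c = x
      · exact ⟨y, hy, h ▸ hxy⟩
      · exact ⟨x, hx, h⟩
    set Z : Subgroup G := ptStab S c ⊓ modCentralizer hS t with hZ
    have hHm : Nat.card (ptStab S c) = invBar S C c * Nat.card Z := by
      rw [← card_orbit_mod_kernel hS hc hz hcz ht ht2 htc]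
    have hZH : Z ≤ ptStab S c := inf_le_left
    haveI : (R.subgroupOf (ptStab S c)).Normal := normal_subgroupOf_of_le_normalizer hN
    have hprod := Cores.card_sup_mul_card_inf (Z.subgroupOf (ptStab S c))
      (R.subgroupOf (ptStab S c))
    rw [← subgroupOf_sup hZH hRS,
      show Z.subgroupOf (ptStab S c) ⊓ R.subgroupOf (ptStab S c) =
        (Z ⊓ R).subgroupOf (ptStab S c) from rfl,
      Nat.card_congr (subgroupOfEquivOfLe (sup_le hZH hRS)).toEquiv,
      Nat.card_congr (subgroupOfEquivOfLe hZH).toEquiv,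
      Nat.card_congr (subgroupOfEquivOfLe hRS).toEquiv] at hprod
    have hinf : Nat.card ((Z ⊓ R).subgroupOf (ptStab S c)) ∣ Nat.card D := by
      rw [Nat.card_congr (subgroupOfEquivOfLe (inf_le_right.trans hRS)).toEquiv]
      exact card_dvd_of_le fun g hg => ⟨hg.1.2, hg.2⟩
    have hdiv : Nat.card R ∣ Nat.card D * invBar S C c := by
      refine (Nat.mul_dvd_mul_iff_right (Nat.card_pos (α := Z))).mp ?_
      rw [mul_assoc, ← hHm, mul_comm (Nat.card R), ← hprod, mul_comm (Nat.card D)]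
      exact Nat.mul_dvd_mul (card_dvd_of_le (sup_le hZH hRS)) hinf
    exact (Nat.Coprime.pow_left _ (hr.coprime_iff_not_dvd.mpr hrm)).dvd_of_dvd_mul_right
      ((Nat.ordProj_dvd (Nat.card R) r).trans hdiv)

end Cfsg.Agent.H72.SE
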