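import Cfsg.Agent.H39.StronglyEmbedded

/-!
Counting criterion: a set of cosets containing the fixed point of every involution interchanging
two of its members is preserved by every involution fixing one of its members.
-/

set_option autoImplicit false

namespace Cfsg.Agent.H72.SE

variable {G : Type*} [Group G] [Finite G] {H : Subgroup G}

/-- If `C` contains the fixed points of all swappers of its pairs, the involutions at points of `C`
stabilise `C`. -/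
theorem smul_mem_line (hH : Cfsg.IsStronglyEmbedded H) (C : Set (G ⧸ H))
    (hT : ∀ x ∈ C, ∀ y ∈ C, x ≠ y → ∀ w : G, orderOf w = 2 → w • x = y →
      ∀ z : G ⧸ H, w • z = z → z ∈ C)
    {u : G} (hu : orderOf u = 2) {a : G ⧸ H} (ha : a ∈ C) (hua : u • a = a)
    {x : G ⧸ H} (hx : x ∈ C) : u • x ∈ C := by
  classical
  by_cases hxa : x = a
  · rw [hxa, hua]; exact ha
  set m := Nat.card {t : G // orderOf t = 2 ∧ t ∈ H}
  let A := Σ p : {p : C × C // p.1 ≠ p.2},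
    {i : G // orderOf i = 2 ∧ i • (p.1.1 : G ⧸ H) = p.1.2}
  let B := Σ p : {p : C × C // p.1 ≠ p.2},
    {i : G // orderOf i = 2 ∧ i • (p.1.1 : G ⧸ H) = p.1.1}
  let B' := Σ p : {p : C × C // p.1 ≠ p.2},
    {i : G // orderOf i = 2 ∧ i • (p.1.2 : G ⧸ H) = p.1.2}
  choose z hz using fun i : {t : G // orderOf t = 2} => H39.se_exists_fix hH i.2
  have hmem : ∀ q : A, z ⟨q.2.1, q.2.2.1⟩ ∈ C := fun q =>
    hT _ q.1.1.1.2 _ q.1.1.2.2 (fun h => q.1.2 (Subtype.ext h)) _ q.2.2.1 q.2.2.2 _ (hz ⟨q.2.1, q.2.2.1⟩)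
  have hne : ∀ q : A, (q.1.1.1 : C) ≠ ⟨_, hmem q⟩ := by
    intro q h
    have h1 := congrArg Subtype.val h
    simp only at h1
    refine q.1.2 (Subtype.ext ?_)
    calc (q.1.1.1 : G ⧸ H) = z ⟨q.2.1, q.2.2.1⟩ := h1
      _ = q.2.1 • z ⟨q.2.1, q.2.2.1⟩ := (hz ⟨q.2.1, q.2.2.1⟩).symm
      _ = q.2.1 • (q.1.1.1 : G ⧸ H) := by rw [← h1]
      _ = q.1.1.2 := q.2.2.2
  let f : A → B' := fun q => ⟨⟨(q.1.1.1, ⟨_, hmem q⟩), hne q⟩, q.2.1, q.2.2.1, hz ⟨q.2.1, q.2.2.1⟩⟩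
  have hinj : Function.Injective f := by
    rintro ⟨⟨⟨a₁, b₁⟩, hp₁⟩, i₁, hi₁, hs₁⟩ ⟨⟨⟨a₂, b₂⟩, hp₂⟩, i₂, hi₂, hs₂⟩ h
    have hi : i₁ = i₂ := congrArg (fun q : B' => q.2.1) h
    have ha12 : a₁ = a₂ := congrArg (fun q : B' => q.1.1.1) h
    subst hi ha12
    have hb : b₁ = b₂ := Subtype.ext (hs₁.symm.trans hs₂)
    subst hb
    rfl
  have hcA : Nat.card A = Nat.card {p : C × C // p.1 ≠ p.2} * m := by
    have := Fintype.ofFinite {p : C × C // p.1 ≠ p.2}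
    rw [Nat.card_sigma, Finset.sum_congr rfl fun p _ => H39.se_card_swap hH _ _,
      Finset.sum_const, Finset.card_univ, smul_eq_mul, ← Nat.card_eq_fintype_card]
  have hcB : Nat.card B' = Nat.card {p : C × C // p.1 ≠ p.2} * m := by
    have := Fintype.ofFinite {p : C × C // p.1 ≠ p.2}
    rw [Nat.card_sigma, Finset.sum_congr rfl fun p _ => H39.se_card_fix (H := H) _,
      Finset.sum_const, Finset.card_univ, smul_eq_mul, ← Nat.card_eq_fintype_card]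
  have hsurj := (Nat.bijective_iff_injective_and_card f).mpr ⟨hinj, hcA.trans hcB.symm⟩
  obtain ⟨q, hq⟩ := hsurj.2 ⟨⟨(⟨x, hx⟩, ⟨a, ha⟩), fun h => hxa (congrArg Subtype.val h)⟩,
    u, hu, hua⟩
  have h1 : q.2.1 = u := congrArg (fun q : B' => q.2.1) hq
  have h2 : (q.1.1.1 : G ⧸ H) = x := congrArg (fun q : B' => (q.1.1.1 : G ⧸ H)) hq
  rw [← h1, ← h2, q.2.2.2]
  exact q.1.1.2.2

end Cfsg.Agent.H72.SE
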