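import Cfsg.Agent.H72.SE.Cent
import Cfsg.Agent.H73.Bender.EndL1
import Cfsg.Agent.Cores.SE.Pair
import Cfsg.Agent.Cores.SE.QuadraticPush
import Mathlib.GroupTheory.Nilpotent

/-!
Section 7 of notes/bender2.md, Q1: an element of an odd normal subgroup of a point stabiliser which
is quadratic on a normal abelian `q`-section lies in the kernel.
-/

set_option autoImplicit false
set_option linter.style.haveILetI false

namespace Cfsg.Agent.H72.SE

open Subgroup MulAction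
open Cfsg.Agent.H39
open Cfsg.Agent.H73.Bender
open scoped commutatorElement Pointwise

universe u v

variable {G : Type u} [Group G] {Ω : Type v} [MulAction G Ω]

/-- A quadratic element generates a quadratically acting cyclic group. -/
theorem commutator_zpowers_eq_bot [Finite G] (M : Subgroup G) [hMn : M.Normal] {a : G}
    (hq : ∀ w ∈ M, ⁅a, ⁅a, w⁆⁆ = 1) : ⁅⁅M, zpowers a⁆, zpowers a⁆ = ⊥ := by
  have h1 : ∀ m ∈ M, ⁅m, a⁆ ∈ M ⊓ centralizer {a} := by
    intro m hm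
    refine ⟨?_, mem_centralizer_singleton_iff.mpr ?_⟩
    · rw [commutatorElement_def, show m * a * m⁻¹ * a⁻¹ = m * (a * m⁻¹ * a⁻¹) by group]
      exact mul_mem hm (hMn.conj_mem _ (inv_mem hm) a)
    · have hc : Commute a ⁅a, m⁆ := commutatorElement_eq_one_iff_mul_comm.mp (hq m hm)
      rw [← commutatorElement_inv]
      exact hc.inv_right.eq.symm
  have h2 : ⁅M, zpowers a⁆ ≤ M ⊓ centralizer {a} := by
    refine Subgroup.commutator_le.mpr fun m hm x hx => ?_
    obtain ⟨i, rfl⟩ : ∃ i : ℕ, a ^ i = x := mem_powers_iff_mem_zpowers.mpr hx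
    induction i with
    | zero => simp
    | succ i ih =>
      have hih := ih (pow_mem (mem_zpowers a) i)
      rw [pow_succ', show ⁅m, a * a ^ i⁆ = ⁅m, a⁆ * (a * ⁅m, a ^ i⁆ * a⁻¹) by
        simp only [commutatorElement_def]; group,
        ← (mem_centralizer_singleton_iff.mp hih.2), mul_inv_cancel_right]
      exact mul_mem (h1 m hm) hih
  refine le_bot_iff.mp (Subgroup.commutator_le.mpr fun x hx y hy => mem_bot.mpr ?_)
  obtain ⟨j, rfl⟩ := mem_zpowers_iff.mp hy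
  have hc : Commute x a := mem_centralizer_singleton_iff.mp (h2 hx).2
  exact commutatorElement_eq_one_iff_mul_comm.mpr (hc.zpow_right j).eq

/-- Elements quadratic on `V` which generate odd groups with their conjugates in `X` lie in a
normal subgroup of `X` which is a `q`-group modulo the centraliser of `V`. -/
theorem exists_quadratic_core [Finite G] {q : ℕ} [Fact q.Prime] (hq : q ≠ 2) {X V : Subgroup G}
    (hVX : V ≤ X) (hXV : X ≤ normalizer (V : Set G)) (hVq : IsPGroup q V) :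
    ∃ D : Subgroup G, D ≤ X ∧ X ≤ normalizer (D : Set G) ∧
      (∀ d ∈ D, ∃ k : ℕ, d ^ q ^ k ∈ X ⊓ centralizer (V : Set G)) ∧
      ∀ a ∈ X, (∀ w ∈ V, ⁅a, ⁅a, w⁆⁆ = 1) →
        (∀ g ∈ X, Odd (Nat.card (closure ({a, g * a * g⁻¹} : Set G)))) → a ∈ D := by
  set M := V.subgroupOf X with hM
  have : M.Normal := normal_subgroupOf_of_le_normalizer hXV
  refine ⟨(Thompson.stabPre q M).map X.subtype, map_subtype_le _, fun g hg => ?_, ?_, ?_⟩
  · refine le_normalizer_map X.subtype ⟨⟨g, hg⟩, ?_, rfl⟩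
    rw [normalizer_eq_top]; exact mem_top _
  · rintro _ ⟨d, hd, rfl⟩
    obtain ⟨k, hk⟩ := Cores.SE.exists_pow_of_mem_stabPre hd
    refine ⟨k, pow_mem d.2 _, mem_centralizer_iff.mpr fun m hm => ?_⟩
    have := congrArg Subtype.val (mem_centralizer_iff.mp hk ⟨m, hVX hm⟩ (mem_subgroupOf.mpr hm))
    simpa using this
  · intro a haX hqa hodd
    refine ⟨⟨a, haX⟩, Cores.SE.mem_stabPre_of_odd_pairs hq M hVq.comap_subtype ?_ (fun g => ?_), rfl⟩
    · exact commutator_zpowers_eq_bot M fun w hw => Subtype.ext (hqa _ (mem_subgroupOf.mp hw))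
    · have hmap : (closure ({⟨a, haX⟩, g * ⟨a, haX⟩ * g⁻¹} : Set X)).map X.subtype =
          closure ({a, (g : G) * a * (g : G)⁻¹} : Set G) := by
        rw [MonoidHom.map_closure, Set.image_pair]; rfl
      rw [← Subgroup.card_map_of_injective X.subtype_injective, hmap]
      exact hodd g g.2

/-- A group with odd powers of all elements in an odd subgroup is odd. -/
theorem odd_card_of_pow_mem [Finite G] {q : ℕ} (hq : Odd q) {D W : Subgroup G}
    (hW : Odd (Nat.card W)) (h : ∀ d ∈ D, ∃ k : ℕ, d ^ q ^ k ∈ W) : Odd (Nat.card D) := by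
  rw [← Nat.not_even_iff_odd, even_iff_two_dvd]
  intro h2
  obtain ⟨t, ht⟩ := exists_prime_orderOf_dvd_card' 2 h2
  rw [← Subgroup.orderOf_coe] at ht
  obtain ⟨k, hk⟩ := h t t.2
  obtain ⟨i, hi⟩ := hq.pow (n := k)
  rw [hi, pow_succ, pow_mul, pow_two, mul_self_of_orderOf_eq_two ht, one_pow, one_mul] at hk
  exact Nat.not_even_iff_odd.mpr hW
    (even_iff_two_dvd.mpr (ht ▸ Subgroup.orderOf_dvd_natCard W hk))

/-- The normaliser of two subgroups normalises their join. -/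
theorem normalizer_inf_le_normalizer_sup [Finite G] (A B : Subgroup G) :
    normalizer (A : Set G) ⊓ normalizer (B : Set G) ≤ normalizer ((A ⊔ B : Subgroup G) : Set G) :=
  fun g hg => mem_normalizer_iff_map_conj.mpr (by
    rw [Subgroup.map_sup, mem_normalizer_iff_map_conj.mp hg.1,
      mem_normalizer_iff_map_conj.mp hg.2])

/-- The normaliser of two subgroups normalises their meet. -/
theorem normalizer_inf_le_normalizer_inf [Finite G] (A B : Subgroup G) :
    normalizer (A : Set G) ⊓ normalizer (B : Set G) ≤ normalizer ((A ⊓ B : Subgroup G) : Set G) :=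
  fun g hg => mem_normalizer_iff_map_conj.mpr (by
    rw [Subgroup.map_inf A B _ (MulAut.conj g).injective, mem_normalizer_iff_map_conj.mp hg.1,
      mem_normalizer_iff_map_conj.mp hg.2])

/-- A normaliser normalises the centraliser. -/
theorem normalizer_le_normalizer_centralizer (V : Subgroup G) :
    normalizer (V : Set G) ≤ normalizer ((centralizer (V : Set G) : Subgroup G) : Set G) := by
  have key : ∀ g ∈ normalizer (V : Set G), ∀ x ∈ centralizer (V : Set G),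
      g * x * g⁻¹ ∈ centralizer (V : Set G) := fun g hg x hx => mem_centralizer_iff.mpr fun w hw => by
    have h := mem_centralizer_iff.mp hx _ ((Subgroup.mem_normalizer_iff''.mp hg w).mp hw)
    calc w * (g * x * g⁻¹) = g * (g⁻¹ * w * g * x) * g⁻¹ := by group
      _ = g * (x * (g⁻¹ * w * g)) * g⁻¹ := by rw [h]
      _ = g * x * g⁻¹ * w := by group
  exact fun g hg => Subgroup.mem_normalizer_iff.mpr fun x => ⟨key g hg x, fun hx => by
    simpa [mul_assoc] using key g⁻¹ (inv_mem hg) _ hx⟩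

variable {S : Subgroup G} {C : Set Ω}

/-- The points of the involutions commuting with `a` modulo the kernel. -/
def lineOf (hS : SE S C) (a : G) : Set Ω := points (modCentralizer hS a) C

theorem modCentralizer_le (hS : SE S C) (a : G) : modCentralizer hS a ≤ S := fun _ h => h.1

/-- Conjugation moves lines. -/
theorem smul_mem_lineOf (hS : SE S C) {h a : G} (hh : h ∈ S) {z : Ω} (hz : z ∈ lineOf hS a) :
    h • z ∈ lineOf hS (h * a * h⁻¹) := by
  obtain ⟨hzC, t, ht, ht2, htz⟩ := hz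
  refine ⟨hS.smul_mem hh hzC, h * t * h⁻¹, mem_modCentralizer.mpr
    ⟨conj_mem_of_mem hh ht.1, ?_⟩, by rw [orderOf_conj, ht2], conj_smul_of_smul htz⟩
  rw [show ⁅h * t * h⁻¹, h * a * h⁻¹⁆ = h * ⁅t, a⁆ * h⁻¹ by
    simp only [commutatorElement_def]; group]
  exact (Subgroup.mem_normalizer_iff.mp (le_normalizer_kernel hS hh) _).mp ht.2

/-- `a` fixes its line pointwise. -/
theorem fix_of_mem_lineOf (hS : SE S C) {a : G} (ha : a ∈ S) {z : Ω} (hz : z ∈ lineOf hS a) :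
    a • z = z := by
  obtain ⟨hzC, t, ht, ht2, htz⟩ := hz
  refine hS.fix_unique ht.1 ht2 (hS.smul_mem ha hzC) hzC ?_ htz
  have e : t * a = ⁅t, a⁆ * (a * t) := by simp only [commutatorElement_def]; group
  rw [← mul_smul, e, mul_smul, mul_smul, htz]
  exact (mem_kernel.mp ht.2).2 _ (hS.smul_mem ha hzC)

variable [Finite G]

/-- An involution generated by two quadratic elements commutes with them modulo the kernel. -/
theorem commutator_mem_of_pair {q : ℕ} [Fact q.Prime] (hq : q ≠ 2) {V : Subgroup G}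
    (hVc : IsMulCommutative V) (hVq : IsPGroup q V) (hSV : S ≤ normalizer (V : Set G))
    (hW : S ⊓ centralizer (V : Set G) ≤ kernel S C) {y z s : G} (hy : y ∈ S) (hz : z ∈ S)
    (hqy : ∀ w ∈ V, ⁅y, ⁅y, w⁆⁆ = 1) (hqz : ∀ w ∈ V, ⁅z, ⁅z, w⁆⁆ = 1)
    (hs : s ∈ closure ({y, z} : Set G)) (hs2 : orderOf s = 2) : ⁅s, y⁆ ∈ kernel S C := by
  have hVo : Odd (Nat.card V) := by
    obtain ⟨k, hk⟩ := IsPGroup.iff_card.mp hVq
    rw [hk]; exact ((Fact.out : q.Prime).odd_of_ne_two hq).pow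
  have hsS : s ∈ S := (closure_le S).mpr (by rintro x (rfl | rfl) <;> assumption) hs
  have hc := Cores.SE.conj_comm_of_quadratic_pair (W := V) hVo (hSV hy) (hSV hz) hqy hqz hs
    fun w _ => by rw [mul_self_of_orderOf_eq_two hs2, one_mul, inv_one, mul_one]
  refine hW (Subgroup.mem_inf.mpr ⟨?_, mem_centralizer_iff.mpr fun w hw => ?_⟩)
  · rw [commutatorElement_def]
    exact mul_mem (mul_mem (mul_mem hsS hy) (inv_mem hsS)) (inv_mem hy)
  · have hys : (y * s)⁻¹ ∈ normalizer (V : Set G) := inv_mem (hSV (mul_mem hy hsS))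
    have hw' : (y * s)⁻¹ * w * (y * s) ∈ V := by
      simpa using (Subgroup.mem_normalizer_iff.mp hys w).mp hw
    have h := hc _ hw'
    rw [show y * s * ((y * s)⁻¹ * w * (y * s)) * (y * s)⁻¹ = w by group] at h
    calc w * ⁅s, y⁆ = s * y * ((y * s)⁻¹ * w * (y * s)) * (s * y)⁻¹ * ⁅s, y⁆ := by rw [h]
      _ = ⁅s, y⁆ * w := by simp only [commutatorElement_def]; group

/-- If a subgroup `X` of `P` contains `K` with `P` a `q`-group modulo `K` and is proper, it is
normalised by an element of `P` outside it. -/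
theorem exists_normalize_outside {q : ℕ} [Fact q.Prime] {P K X : Subgroup G} (hPK : P ≤ normalizer (K : Set G))
    (hKX : K ≤ X) (hq : ∀ d ∈ P, ∃ k : ℕ, d ^ q ^ k ∈ K) (hne : ¬ P ≤ X) :
    ∃ p ∈ P, p ∉ X ∧ ∀ x ∈ P, x ∈ X → p * x * p⁻¹ ∈ X := by
  haveI : (K.subgroupOf P).Normal := normal_subgroupOf_of_le_normalizer hPK
  set π := QuotientGroup.mk' (K.subgroupOf P) with hπ
  have hPq : IsPGroup q (P ⧸ K.subgroupOf P) := fun x => by
    obtain ⟨d, rfl⟩ := QuotientGroup.mk'_surjective _ x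
    obtain ⟨k, hk⟩ := hq d d.2
    exact ⟨k, by rw [← map_pow]; exact (QuotientGroup.eq_one_iff _).mpr hk⟩
  haveI := hPq.isNilpotent
  have hcomap : ((X.subgroupOf P).map π).comap π = X.subgroupOf P := by
    rw [comap_map_eq, hπ, QuotientGroup.ker_mk', sup_eq_left]
    exact fun y hy => hKX hy
  have hlt : (X.subgroupOf P).map π < ⊤ := lt_top_iff_ne_top.mpr fun h => hne fun x hx => by
    have : (⟨x, hx⟩ : P) ∈ X.subgroupOf P := by rw [← hcomap, h]; trivial
    exact this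
  obtain ⟨y, hyN, hyX⟩ := SetLike.exists_of_lt (Group.normalizerCondition_of_isNilpotent _ hlt)
  obtain ⟨p, rfl⟩ := QuotientGroup.mk'_surjective _ y
  refine ⟨p, p.2, fun h => hyX ⟨p, h, rfl⟩, fun x hx hxX => ?_⟩
  have h : p * ⟨x, hx⟩ * p⁻¹ ∈ X.subgroupOf P := by
    rw [← hcomap, mem_comap, map_mul, map_mul, map_inv]
    exact (Subgroup.mem_normalizer_iff.mp hyN _).mp ⟨⟨x, hx⟩, hxX, rfl⟩
  exact h

variable [Finite Ω]

/-- Q1, given CENT and two-transitivity of good actions. -/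
theorem quadraticPoint (hcent : Targets.Cent.{u, v}) (h2T : Targets.GoodTwoTrans.{u, v}) :
    Targets.QuadraticPoint.{u, v} := by
  intro G _ _ Ω _ _ S C c q _ V R a hM hS h2 hG hq hc hVS hVc hVq hSV hodd hRS hR hN haR haq hqa
  induction hn : Nat.card C using Nat.strong_induction_on generalizing S C R a with
  | _ n ih =>
  subst hn
  have hqo : Odd q := (Fact.out : q.Prime).odd_of_ne_two hq
  set K := kernel S C with hK
  have hKS : K ≤ S := inf_le_left
  have hKN : S ≤ normalizer (K : Set G) := le_normalizer_kernel hS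
  have hW : S ⊓ centralizer (V : Set G) ≤ K := hS.le_kernel_of_odd h2 inf_le_left hodd
    ((le_inf Subgroup.le_normalizer (hSV.trans (normalizer_le_normalizer_centralizer V))).trans
      (normalizer_inf_le_normalizer_inf _ _))
  have hVK : V ≤ K := hS.le_kernel_of_odd h2 hVS (by
    obtain ⟨k, hk⟩ := IsPGroup.iff_card.mp hVq
    rw [hk]; exact hqo.pow) hSV
  -- enlarge `R` by the kernel
  have hKH : K ≤ ptStab S c := fun g hg => mem_ptStab.mpr ⟨hKS hg, (mem_kernel.mp hg).2 c hc⟩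
  have hKN' : ptStab S c ≤ normalizer (K : Set G) := inf_le_left.trans hKN
  set R₁ := R ⊔ K with hR₁
  have hR₁H : R₁ ≤ ptStab S c := sup_le hRS hKH
  have hR₁N : ptStab S c ≤ normalizer (R₁ : Set G) :=
    (le_inf hN hKN').trans (normalizer_inf_le_normalizer_sup _ _)
  have hR₁o : Odd (Nat.card R₁) := by
    haveI : (K.subgroupOf (ptStab S c)).Normal := normal_subgroupOf_of_le_normalizer hKN'
    have h := Cores.card_sup_dvd (R.subgroupOf (ptStab S c)) (K.subgroupOf (ptStab S c))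
    rw [← subgroupOf_sup hRS hKH,
      Nat.card_congr (subgroupOfEquivOfLe hR₁H).toEquiv,
      Nat.card_congr (subgroupOfEquivOfLe hRS).toEquiv,
      Nat.card_congr (subgroupOfEquivOfLe hKH).toEquiv] at h
    exact (hR.mul hS.odd_kernel).of_dvd_nat h
  have hR₁S : R₁ ≤ S := hR₁H.trans inf_le_left
  set E : Set G := {b | b ∈ R₁ ∧ (∃ k, orderOf b = q ^ k) ∧ ∀ w ∈ V, ⁅b, ⁅b, w⁆⁆ = 1} with hE
  by_contra haK
  -- the line of a quadratic element has two points
  have hinv : ∀ b ∈ E, ∀ t ∈ S, orderOf t = 2 → t • c = c → t ∈ modCentralizer hS b :=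
    fun b hb t ht ht2 htc => mem_modCentralizer.mpr
      ⟨ht, hcent G Ω S C c R₁ hS h2 hG hc hR₁H hR₁o hR₁N t ht ht2 htc b hb.1⟩
  have hcline : ∀ b ∈ E, c ∈ lineOf hS b := fun b hb => by
    obtain ⟨t, ht, ht2, htc⟩ := hS.exists_inv_at hc
    exact ⟨hc, t, hinv b hb t ht ht2 htc, ht2, htc⟩
  have htwo : ∀ b ∈ E, b ∉ K → ∃ z ∈ lineOf hS b, z ≠ c := by
    intro b hb hbK
    have hbS : b ∈ S := hR₁S hb.1
    obtain ⟨g, hg, hev⟩ : ∃ g ∈ S, ¬ Odd (Nat.card (closure ({b, g * b * g⁻¹} : Set G))) := by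
      by_contra! hall
      obtain ⟨D, hDS, hDN, hDp, hbD⟩ := exists_quadratic_core hq hVS hSV hVq
      exact hbK (hS.le_kernel_of_odd h2 hDS (odd_card_of_pow_mem hqo hodd hDp) hDN
        (hbD b hbS hb.2.2 hall))
    have hgS : g * b * g⁻¹ ∈ S := conj_mem_of_mem hg hbS
    have hgc : g • c ≠ c := fun h => hev (hR₁o.of_dvd_nat (card_dvd_of_le ((closure_le R₁).mpr (by
      rintro x (rfl | rfl)
      · exact hb.1
      · exact (Subgroup.mem_normalizer_iff.mp (hR₁N (mem_ptStab.mpr ⟨hg, h⟩)) _).mp hb.1))))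
    obtain ⟨s, hs⟩ := exists_prime_orderOf_dvd_card' 2
      (even_iff_two_dvd.mp (Nat.not_odd_iff_even.mp hev))
    rw [← Subgroup.orderOf_coe] at hs
    have hqg : ∀ w ∈ V, ⁅g * b * g⁻¹, ⁅g * b * g⁻¹, w⁆⁆ = 1 := fun w hw => by
      have h := hb.2.2 _ ((Subgroup.mem_normalizer_iff''.mp (hSV hg) w).mp hw)
      rw [show ⁅g * b * g⁻¹, ⁅g * b * g⁻¹, w⁆⁆ = g * ⁅b, ⁅b, g⁻¹ * w * g⁆⁆ * g⁻¹ by
        simp only [commutatorElement_def]; group, h, mul_one, mul_inv_cancel]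
    have hsb : ⁅(s : G), b⁆ ∈ K :=
      commutator_mem_of_pair hq hVc hVq hSV hW hbS hgS hb.2.2 hqg s.2 hs
    have hsb' : ⁅(s : G), g * b * g⁻¹⁆ ∈ K :=
      commutator_mem_of_pair hq hVc hVq hSV hW hgS hbS hqg hb.2.2 (Set.pair_comm _ _ ▸ s.2) hs
    have hsS : (s : G) ∈ S := (closure_le S).mpr
      (by rintro x (rfl | rfl) <;> assumption) s.2
    obtain ⟨z, hz, hsz⟩ := hS.exists_fix hsS hs
    by_cases hzc : z = c
    · subst hzc
      have hmem := smul_mem_lineOf hS (inv_mem hg) (a := g * b * g⁻¹)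
        ⟨hz, s, mem_modCentralizer.mpr ⟨hsS, hsb'⟩, hs, hsz⟩
      rw [show g⁻¹ * (g * b * g⁻¹) * g⁻¹⁻¹ = b by group] at hmem
      exact ⟨_, hmem, fun h => hgc (inv_smul_eq_iff.mp h).symm⟩
    · exact ⟨z, ⟨hz, s, mem_modCentralizer.mpr ⟨hsS, hsb⟩, hs, hsz⟩, hzc⟩
  -- every involution with point in the line commutes with the element
  have hall : ∀ b ∈ E, b ∉ K → ∀ z ∈ lineOf hS b, ∀ t ∈ S, orderOf t = 2 → t • z = z →
      t ∈ modCentralizer hS b := by
    intro b hb hbK z hz t ht ht2 htz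
    obtain ⟨z', hz', hz'c⟩ := htwo b hb hbK
    obtain ⟨h, hh, rfl⟩ := (hS.line (modCentralizer_le hS b) (hcline b hb) hz' hz'c.symm).trans
      (hcline b hb) hz
    have h1 : h⁻¹ * t * h ∈ modCentralizer hS b := hinv b hb _
      (mul_mem (mul_mem (inv_mem hh.1) ht) hh.1)
      (by rw [show h⁻¹ * t * h = h⁻¹ * t * h⁻¹⁻¹ by group, orderOf_conj, ht2])
      (by rw [mul_smul, mul_smul, htz, inv_smul_smul])
    have h2 := mul_mem (mul_mem hh h1) (inv_mem hh)
    rwa [show h * (h⁻¹ * t * h) * h⁻¹ = t by group] at h2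
  -- choose the element with the largest line
  have haE : a ∈ E := ⟨mem_sup_left haR, haq, hqa⟩
  obtain ⟨b₀, ⟨hb₀, hb₀K⟩, hmax⟩ := Set.exists_max_image {b | b ∈ E ∧ b ∉ K}
    (fun b => (lineOf hS b).ncard) (Set.toFinite _) ⟨a, haE, haK⟩
  set C₁ := lineOf hS b₀ with hC₁
  obtain ⟨z₀, hz₀, hz₀c⟩ := htwo b₀ hb₀ hb₀K
  have hcl : Closed S C C₁ := ⟨points_subset _ _, ⟨c, hcline b₀ hb₀, z₀, hz₀, hz₀c.symm⟩,
    fun t ht ht2 ⟨z, hz, htz⟩ => mem_setStab ht fun x hx => smul_mem_points hS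
      (modCentralizer_le hS b₀) ht
      (Subgroup.le_normalizer (hall b₀ hb₀ hb₀K z hz t ht ht2 htz)) hx⟩
  have hne : C₁ ≠ C := fun h => hb₀K (mem_kernel.mpr ⟨hR₁S hb₀.1, fun z hz =>
    fix_of_mem_lineOf hS (hR₁S hb₀.1) (show z ∈ C₁ from h.symm ▸ hz)⟩)
  set S₁ := setStab S C₁ with hS₁
  have hS₁S : S₁ ≤ S := setStab_le S C₁
  have hKS₁ : K ≤ S₁ := fun g hg => mem_setStab (hKS hg) fun z hz => by
    rw [(mem_kernel.mp hg).2 z (hcl.subset hz)]; exact hz
  have hse₁ := hcl.se hS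
  have hcard : Nat.card C₁ < Nat.card C := by
    rw [Nat.card_coe_set_eq, Nat.card_coe_set_eq]
    exact Set.ncard_lt_ncard (hcl.subset.ssubset_of_ne hne) (Set.toFinite _)
  have hSle : Nat.card S₁ ≤ Nat.card S := Subgroup.card_le_of_le hS₁S
  have hM₁ : MainBelow.{u, v} (Nat.card S₁) (Nat.card C₁) := fun G' _ _ Ω' _ _ T C' h =>
    hM G' Ω' T C' (by omega)
  have hrt₁ := hcl.rankTwo hS h2
  have hG₁ := (hM G Ω S₁ C₁ (Or.inr ⟨hSle, hcard⟩) hse₁ hrt₁).1
  -- quadratic elements stabilising the line have the same line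
  have hsame : ∀ b ∈ E, b ∉ K → b ∈ S₁ → lineOf hS b = C₁ := by
    intro b hb hbK hbS₁
    have hker : b ∈ kernel S₁ C₁ := by
      refine ih _ hcard S₁ C₁ (R₁ ⊓ S₁) b hM₁ hse₁ hrt₁ hG₁ (hcline b₀ hb₀)
        (hVK.trans hKS₁) (hS₁S.trans hSV)
        (hodd.of_dvd_nat (card_dvd_of_le (inf_le_inf_right _ hS₁S)))
        (fun g hg => mem_ptStab.mpr ⟨hg.2, (mem_ptStab.mp (hR₁H hg.1)).2⟩)
        (hR₁o.of_dvd_nat (card_dvd_of_le inf_le_left)) (fun g hg => ?_) ⟨hb.1, hbS₁⟩ hb.2.1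
        hb.2.2 rfl
      obtain ⟨hgS₁, hgc⟩ := mem_ptStab.mp hg
      exact normalizer_inf_le_normalizer_inf _ _
        ⟨hR₁N (mem_ptStab.mpr ⟨hS₁S hgS₁, hgc⟩), Subgroup.le_normalizer hgS₁⟩
    refine (Set.eq_of_subset_of_ncard_le ?_ (hmax b ⟨hb, hbK⟩) (Set.toFinite _)).symm
    intro z hz
    obtain ⟨t, ht, ht2, htz⟩ := hS.exists_inv_at (hcl.subset hz)
    have htS₁ : t ∈ S₁ := hcl.stable t ht ht2 ⟨z, hz, htz⟩
    refine ⟨hcl.subset hz, t, mem_modCentralizer.mpr ⟨ht, ?_⟩, ht2, htz⟩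
    have hti : t⁻¹ = t := inv_eq_of_orderOf_eq_two ht2
    have hfix : ∀ w ∈ C₁, ⁅t, b⁆ • w = w := fun w hw => by
      rw [commutatorElement_def, mul_smul, mul_smul, mul_smul,
        inv_smul_eq_iff.mpr ((mem_kernel.mp hker).2 w hw).symm, hti,
        (mem_kernel.mp hker).2 _ (smul_mem_of_mem_setStab htS₁ hw), ← mul_smul,
        mul_self_of_orderOf_eq_two ht2, one_smul]
    have hbS : b ∈ S := hS₁S hbS₁
    have hjS : ⁅t, b⁆ ∈ S := by
      rw [commutatorElement_def]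
      exact mul_mem (mul_mem (mul_mem ht hbS) (inv_mem ht)) (inv_mem hbS)
    have hjinv : t * ⁅t, b⁆ * t⁻¹ = ⁅t, b⁆⁻¹ := by
      rw [commutatorElement_inv, commutatorElement_def, commutatorElement_def, hti]
      simp only [← mul_assoc, mul_self_of_orderOf_eq_two ht2, one_mul]
    obtain ⟨z', hz', hz'ne⟩ : ∃ z' ∈ C₁, z ≠ z' := by
      by_cases h : z = c
      · exact ⟨z₀, hz₀, h ▸ hz₀c.symm⟩
      · exact ⟨c, hcline b₀ hb₀, h⟩
    exact mem_kernel.mpr ⟨hjS, hG t ht ht2 _ hjS hjinv z (hcl.subset hz) z' (hcl.subset hz') hz'ne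
      htz (hfix z hz) (hfix z' hz')⟩
  -- so all of them share the line
  obtain ⟨D, hDR, -, hDp, hbD⟩ := exists_quadratic_core hq (hVK.trans le_sup_right)
    (hR₁S.trans hSV) hVq
  have hED : ∀ b ∈ E, b ∈ D := fun b hb => hbD b hb.1 hb.2.2 fun g hg =>
    hR₁o.of_dvd_nat (card_dvd_of_le ((closure_le R₁).mpr (by
      rintro x (rfl | rfl)
      · exact hb.1
      · exact mul_mem (mul_mem hg hb.1) (inv_mem hg))))
  set P := D ⊔ K with hP
  have hPR : P ≤ R₁ := sup_le hDR le_sup_right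
  have hPN : P ≤ normalizer (K : Set G) := (hPR.trans hR₁S).trans hKN
  have hEconj : ∀ h ∈ ptStab S c, ∀ b ∈ E, h * b * h⁻¹ ∈ E := fun h hh b hb => by
    refine ⟨(Subgroup.mem_normalizer_iff.mp (hR₁N hh) _).mp hb.1, ?_, fun w hw => ?_⟩
    · rw [orderOf_conj]; exact hb.2.1
    · have hq' := hb.2.2 _
        ((Subgroup.mem_normalizer_iff''.mp (hSV (mem_ptStab.mp hh).1) w).mp hw)
      rw [show ⁅h * b * h⁻¹, ⁅h * b * h⁻¹, w⁆⁆ = h * ⁅b, ⁅b, h⁻¹ * w * h⁆⁆ * h⁻¹ by
        simp only [commutatorElement_def]; group, hq', mul_one, mul_inv_cancel]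
  have hKconj : ∀ h ∈ S, ∀ b ∉ K, h * b * h⁻¹ ∉ K := fun h hh b hb hmem =>
    hb ((Subgroup.mem_normalizer_iff.mp (hKN hh) _).mpr hmem)
  have hstab : ∀ h ∈ ptStab S c, h * b₀ * h⁻¹ ∈ S₁ → ∀ z ∈ C₁, h • z ∈ C₁ :=
    fun h hh hmem z hz =>
      hsame _ (hEconj h hh b₀ hb₀) (hKconj h (mem_ptStab.mp hh).1 b₀ hb₀K) hmem ▸
        smul_mem_lineOf hS (mem_ptStab.mp hh).1 hz
  have hPS₁ : P ≤ S₁ := by
    by_contra hnot
    obtain ⟨p, hpP, hpS₁, hpN⟩ := exists_normalize_outside (q := q) hPN hKS₁ (fun d hd => by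
      rw [← SetLike.mem_coe, hP,
        Subgroup.coe_mul_of_left_le_normalizer_right D K
          ((hDR.trans hR₁S).trans hKN)] at hd
      obtain ⟨x, hx, k, hk, rfl⟩ := hd
      obtain ⟨i, hi⟩ := hDp x hx
      refine ⟨i, ?_⟩
      haveI : (K.subgroupOf S).Normal := normal_subgroupOf_of_le_normalizer hKN
      have hxS : x ∈ S := hR₁S (hDR hx)
      suffices h : (⟨x, hxS⟩ * ⟨k, hKS hk⟩ : S) ^ q ^ i ∈ K.subgroupOf S from h
      rw [← QuotientGroup.eq_one_iff, QuotientGroup.mk_pow, QuotientGroup.mk_mul,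
        (QuotientGroup.eq_one_iff (⟨k, hKS hk⟩ : S)).mpr hk, mul_one, ← QuotientGroup.mk_pow,
        QuotientGroup.eq_one_iff]
      exact hW ⟨pow_mem hxS _, hi.2⟩) hnot
    exact hpS₁ (mem_setStab (hR₁S (hPR hpP)) (hstab p (hR₁H (hPR hpP))
      (hpN _ (mem_sup_left (hED _ hb₀))
        (mem_setStab (hR₁S hb₀.1) fun z hz => by
          rw [fix_of_mem_lineOf hS (hR₁S hb₀.1) hz]; exact hz))))
  refine hb₀K (mem_kernel.mpr ⟨hR₁S hb₀.1, fun w hw => ?_⟩)
  by_cases hwc : w = c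
  · rw [hwc]; exact (mem_ptStab.mp (hR₁H hb₀.1)).2
  obtain ⟨h, hh, hhc, hhz⟩ := h2T G Ω S C hS h2 hG c hc z₀ (hcl.subset hz₀) w hw hz₀c hwc
  have hhH : h ∈ ptStab S c := mem_ptStab.mpr ⟨hh, hhc⟩
  have hmem := hstab h hhH (hPS₁ (mem_sup_left (hED _ (hEconj h hhH b₀ hb₀)))) z₀ hz₀
  rw [hhz] at hmem
  exact fix_of_mem_lineOf hS (hR₁S hb₀.1) hmem

end Cfsg.Agent.H72.SE
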