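import Cfsg.Agent.H72.SE.QuadraticPoint
import Cfsg.Agent.H73.Bender.SecTwo
import Cfsg.Agent.H73.Bender.QuadPair

/-!
Section 7 of notes/bender2.md with its inputs from section 2 discharged.
-/

set_option autoImplicit false

namespace Cfsg.Agent.H72.SE

open Cfsg.Agent.H73.Bender

universe u v

theorem cent_holds : Targets.Cent.{u, v} := cent pairSylowFixed

theorem quadraticPoint_holds : Targets.QuadraticPoint.{u, v} :=
  quadraticPoint cent_holds goodTwoTrans

theorem quadraticPair_holds : Targets.QuadraticPair.{u, v} :=
  quadraticPair_of cent_holds rankTwoOfDvd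

end Cfsg.Agent.H72.SE
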